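import Cfsg.Agent.Lib.Helper35.Simple2
import Cfsg.Agent.Lib.Helper35.PresFi22

namespace Cfsg.Agent.Lib.Helper35.Fi22Ord.Y0

open Cfsg.Agent.Lib.Helper35

set_option maxRecDepth 100000
def yw : List Nat := [1, 7, 4, 3, 0, 8, 2, 5]
def tA0 : Nat := 0x9904000000000000003350000000000000000000000000000000000000000000000000000000000000000000000000000000000000000000000000000000000000000000000000000000000000000000000000009cb4000000252900000000000318000031510c8431000042e10b442c10a842900004261094424108c422108441f1078000106d18200000000000000120820b000054d0000000000054a1524548000054700000000000544150c000150454014fc00014f853d000000014ec000000045000000001138000080c0000c243080c1c3060c1430404d00001044410000040e1034000044c2010408000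
def tJ0 : Nat := 0x1400000000000000007000000000000000000000000000000000000000000000000000000000000000000000000000000000000000000000000000000000000000000000000000000000000000000000000000001400000000050000000000000100000020010008000000300100010008004000000300200040004009000c00700040000008005000000000000000000000000000000000000000000000000000000000000000000000000000000000000000000000000000000000000000000000000000000000000000000000004009000c0020020007001800000000000000000000000000180000018000
def tA1 : Nat := 0x44511104421104000000000008d40000000000b8a8000000000000000000000000000000000000000002d2a6220000000000000000000000000000000000000009e1c000000000000000000000000000031e0c7431b000000010b400010a842910a0426000000000000000000000000000000000009ca800016280000000588161c0000000000000140f503820c000030f0c3830d060c313000000000000000000000155c000000000015505530000000000000000000000000000000045c116c0001168000081030900003070c18000000000000000000000000000013a0808000000000000000000000119080410b040c000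
def tJ1 : Nat := 0x30014006000c0000000000000000000000000004000000000000000000000000000000000000000000001000400000000000000000000000000000000000000000400000000000000000000000000000030020004000000000180000010006000c00500000000000000000000000000000000000552800000000000000000000000000000000000001000400000000050010007000800900000000000000000000000000000000000000000000000000000000000000000000000000000000000000000000000003000000500100000000000000000000000000000002000000000000000000000000000200000020008000
def tA2 : Nat := 0x1600000000000000003370ce8234000068908c40000000000000000000000000000000000282d00000007a20000000320c00000000000000000000000003240c8c00010b842d000042a10a442808680000000000000000090b40000002229000000008500000000000000000000000009cb400000025290000000b4a5d880000000000020d000030f0c3800000000000000000082c182000000005fc0000000563000000000005600000000000000000000001194000000000008140000c203070c1815d0000000000000000001510000000000000010f043b04f820204d400000000000000000047c201000010c0410000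
def tJ2 : Nat := 0x2800000000000000003002400000000000000000000000000000000000000000000000000060000000001800000000060000000000000000000000000005001c000001000500000030014007000000000000000000000620800000017c200000000000000000000000000000000000570800000015020000000460800b000000000000000000004000c000000000000000000000001000000000040000000000000000000000000000000000000000000000000000000000000000000020004000c0010000000000000000000010000000000000000000000004000000400000000000000000000400000000010004000
def tA3 : Nat := 0x1342000097b0000000000033200000000000000221022c0002e230002d0e583c228c88ad23000000000003290c98000000022310b4000088000000000000000000000000000000000c7c0000000000000000000000000000000000000000000000000000000021100000000000000ac8c0000000000083831200000000c3c000000000000000000000000000020b0000000000048008240000000000000017a000017711b8174000046d081800005a83080c1c167117400000000000000204000000000000000000000000044205300000000143080800004d800004c44220000125080411a045010d0414000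
def tJ3 : Nat := 0x200000000000000000000400000000000000000c000000000200000020008000000800200000000000004000c0000000000001000000000000000000000000000000000000000001800000000000000000000000000000000000000000000000000000000000000000000000006a1c000000000000000040000000000c00000000000000000000000000000000000000000000000000000000000000000100000010000001000000000000000004005000c0010000000000000000000000000000000000000000000000000000400000000010000000000400000040000000001000000100040010004000
def tA4 : Nat := 0x33900000000000a7a39a423500000000000000000000000000000000b86000032c000043310c800010bc000aca400008980000000000000000036142210c9400000000000000000000021c000031e000000000002190000000000000008580000c600000000000000021350840000000000000320e083c3120c44000a896a29000000058c8000000000008300001228000082c000061000015d8575000000015cc000000047800002070c283090c2016f0000000000000005a020500000000000160081000005684530000155080c00005380001114000051c202000013b04dc42910a000004a8201048011b045410e0418000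
def tJ4 : Nat := 0x20000000000000300000000000000000000000000000000000000000000000020000002000c000000800000140000000000000000000000000008000001c000000000000000000000000000000200000000000000000000000000000000000000800000000000000000681000000000000000005000000300080006710005000000075100000000000000000000000000000000000400000000000000000000000000000000000000000c00200180010000000000000000040000000000000000100000000004000000000100000000004000000000000040000000001000400000000000004000000400100040010004000
def tA5 : Nat := 0x76608ddb53000000000006800000000000078400000000cc043310c843108ac0000002d32583400000000000ca00000ca8000089400000000000c90000000068a000000008740000c780000000000000000000000000000000000031800000007220215000000000000000000000000021000003110000000509020e50c800000000000834000000020c0000000000020b06240000000000000057b15e847d00002080c2830905e446f0000471000020605b4469000000008140000000461058c20400000000000456056020305480000000000112014a080814404fc13c04e000010b012e0804126048411c045810f041c000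
def tJ5 : Nat := 0x200000000000008000000000000000000000000c002000c00700000000000005001400000000000008000001800000000000000000000c0000000009000000000000000008000000000000000000000000000000000000020000000000000000000000000000000000000000000000002000000069100007b100000000000000000000000000000000000000000040000000000000000000000000000000000c0020004000000000000000000004000000000000000000000000000400000000000000000000400000040000000000000000100000010004001000400000000010000001000400100040010004000
def tA6 : Nat := 0x433000000000000000cb8000000000000000000ca0000000000000000000000000000000000000000000000000031e000000000000000000000000000008640000c600000000000000000000000000000000000000000000000c4732e0000000000000000000000000000000020d00000000000000000000000000000000000000000015f8000000030a0c240000000000081c00000004730818170000000000002050000000000046408100000000000056c459080c0000000000053c000112c20200000000500000000000010bc20104ac127048811d045c1100420000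
def tJ6 : Nat := 0x200000000000000001000000000000000000000800000000000000000000000000000000000000000000000000020000000000000000000000000000000000000080000000000000000000000000000000000000000000000009e450000000000000000000000000000000000000000000000000000000000000000000000000000000000000000003000800000000000000000000000000000010000000000000000000000000000000000000000000004000000000000000000004000000000000000000004000000000000000000004001000400100040010004000
def tA7 : Nat := 0x2372199a5208d80000000b69000130908c8a240000230000022d0000000000022a00002290000000089c000089ac3000000000000224000033132100000000000087c21d00000000870000000021b000021998bc000085c000000021600000000855988000021394bc00000000000840000000020facc4000083942400018260834000000000008300000000000082c00006281870614000000018111a817e082000005f0207000017805d820605cc171000016c0814000000000005942040590161057800005702030564156054c0000540000080814b0520145050413d04e4133080412f04b0128048c11e04601110424000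
def tJ7 : Nat := 0x10000000000000000040000002000000200000000000000000000000000000000000000000000000000001f83000000000000000000005000000000000000000000000000000000000000000000000000080000000000000000000000000000006000000000080000000000000000000000006a1c0000001b030001c43000000000000000000000000000000000000004001000400000000010000001000000000040000000001000400000040010000001000000000000000004000000400100040000004000000400100040000004000000000100040010004001000400100000010004001000400100040010004000
def tA8 : Nat := 0x21fc23600002353da097a00000000ccc2311e2400008b800008b08840000000000000008a00000000000000000000002250000a31088c0000884000000021f0000000000021c0000000086c000000000000000000000000085800000002150000000000000000000000844000000332e083c000a84420e0000000000020d000000058a00000000000000000000000000000188061800012042090600208000017d081c17b00000000818175000017205b820505ac00005a400005980000000162057c0000000000000015705500000000000053400005241460508000000000004c813004b4129049000000001120428000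
def tJ8 : Nat := 0x4001000000100180010000000000c001001400000040000004004000000000000000004000000000000000000000001000200200040000004000000000100000000000001000000000040000000000000000000000000004000000000100000000000000000000000040000001f4200040004d0800100000000000001000000075080000000000000000000000000000000000000000040010000001000000000040000000000000400000000000000001000000000000000000000000000000000000000000000000000000000000000000000000000000000000000000000000000000000000000000000000000000
def tA9 : Nat := 0x23288c9a524948d212484520e3c31201ade096c91cab70c92ab064d0d346c92ac72ad12c4354fd749c422c475d0af08ad0f102bc093442daa94c4d1534da50e44299061598d62357855a3558551f538d45550553d54e912e64a9926448991e446911644498fa1399022137a51ea47bc23408a517102c40ac43c40ac09bc1a90aa426908a41e6054ce53384cdd0358826407881a4054409304a89aa2aacab110c043510a8a2d0fc443001b84700ec442c25b446812a046810a03e80e9436018885e2168056214504e311944250f8c3a50d8c06d01b807601b83b001a00520b8c07002bc0b702bc1b0029c0a103900b3010000000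
def tJ9 : Nat := 0xe4237054c13600d433500d420040d46320000e890ccc43004b4084161032b04ce53288ce400540162834c66005c9b3328c97626c2114003c8c58402143201629a1f007841d047031e047021b0c0181a20640191064218105c1160c60116085431808541142078913106c921748df111003c2178b3726d4c682ce0c6726c43430d003440d047c60c003010c0a0c71e282c11b282c583443134284fc24c19c3b09112863f81e2a073427946b42420611bc281a414305001440504142660d78264018405e00105341d40b59015804e2c0c5506512c46b92bd44adb7a5170e9239009b426bcb8c26c894c1f6c780180003e0000000
def tP : Nat := 0x3773753683673583573543513423273183123072e82d72c82c32b52a72a32972882832772682672662642582552472382332182142031f81f71d71d51c81c71c41b81b71a21971961941771751681671641581571551421371361341181131071050f80f70f40e80e70e50e30d80d70d60d50d20c70c50c40c10b70b50b40b30b20b00a7098093088087085078077076074068067066065063058057056055054052047046045044043041037036035034033030028027026025024023022021018017016015014013012011010000000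
def par : Par := ⟨14, 8, 16383, 255, 16639, 16384⟩
def tabs : Nat → Nat
  | 0 => tA0
  | 1 => tA1
  | 2 => tA2
  | 3 => tA3
  | 4 => tA4
  | 5 => tA5
  | 6 => tA6
  | 7 => tA7
  | 8 => tA8
  | 9 => tA9
  | _ => 0
def pe (u : Nat) : Nat := Nat.land (Nat.shiftRight tP (Nat.mul u 12)) 4095
def je0 (v : Nat) : Nat := Nat.land (Nat.shiftRight tJ0 (Nat.mul v 14)) 16383
def stp0 (off v : Nat) : Nat := Nat.land (Nat.add (Nat.land (Nat.shiftRight tA0 (Nat.mul v 14)) 16383) off) 16639
theorem stp0_eq : ∀ off v, stp0 off v = step par (tabs 0) off v := fun _ _ => rfl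
attribute [irreducible] stp0
def je1 (v : Nat) : Nat := Nat.land (Nat.shiftRight tJ1 (Nat.mul v 14)) 16383
def stp1 (off v : Nat) : Nat := Nat.land (Nat.add (Nat.land (Nat.shiftRight tA1 (Nat.mul v 14)) 16383) off) 16639
theorem stp1_eq : ∀ off v, stp1 off v = step par (tabs 1) off v := fun _ _ => rfl
attribute [irreducible] stp1
def je2 (v : Nat) : Nat := Nat.land (Nat.shiftRight tJ2 (Nat.mul v 14)) 16383
def stp2 (off v : Nat) : Nat := Nat.land (Nat.add (Nat.land (Nat.shiftRight tA2 (Nat.mul v 14)) 16383) off) 16639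
theorem stp2_eq : ∀ off v, stp2 off v = step par (tabs 2) off v := fun _ _ => rfl
attribute [irreducible] stp2
def je3 (v : Nat) : Nat := Nat.land (Nat.shiftRight tJ3 (Nat.mul v 14)) 16383
def stp3 (off v : Nat) : Nat := Nat.land (Nat.add (Nat.land (Nat.shiftRight tA3 (Nat.mul v 14)) 16383) off) 16639
theorem stp3_eq : ∀ off v, stp3 off v = step par (tabs 3) off v := fun _ _ => rfl
attribute [irreducible] stp3
def je4 (v : Nat) : Nat := Nat.land (Nat.shiftRight tJ4 (Nat.mul v 14)) 16383
def stp4 (off v : Nat) : Nat := Nat.land (Nat.add (Nat.land (Nat.shiftRight tA4 (Nat.mul v 14)) 16383) off) 16639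
theorem stp4_eq : ∀ off v, stp4 off v = step par (tabs 4) off v := fun _ _ => rfl
attribute [irreducible] stp4
def je5 (v : Nat) : Nat := Nat.land (Nat.shiftRight tJ5 (Nat.mul v 14)) 16383
def stp5 (off v : Nat) : Nat := Nat.land (Nat.add (Nat.land (Nat.shiftRight tA5 (Nat.mul v 14)) 16383) off) 16639
theorem stp5_eq : ∀ off v, stp5 off v = step par (tabs 5) off v := fun _ _ => rfl
attribute [irreducible] stp5
def je6 (v : Nat) : Nat := Nat.land (Nat.shiftRight tJ6 (Nat.mul v 14)) 16383
def stp6 (off v : Nat) : Nat := Nat.land (Nat.add (Nat.land (Nat.shiftRight tA6 (Nat.mul v 14)) 16383) off) 16639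
theorem stp6_eq : ∀ off v, stp6 off v = step par (tabs 6) off v := fun _ _ => rfl
attribute [irreducible] stp6
def je7 (v : Nat) : Nat := Nat.land (Nat.shiftRight tJ7 (Nat.mul v 14)) 16383
def stp7 (off v : Nat) : Nat := Nat.land (Nat.add (Nat.land (Nat.shiftRight tA7 (Nat.mul v 14)) 16383) off) 16639
theorem stp7_eq : ∀ off v, stp7 off v = step par (tabs 7) off v := fun _ _ => rfl
attribute [irreducible] stp7
def je8 (v : Nat) : Nat := Nat.land (Nat.shiftRight tJ8 (Nat.mul v 14)) 16383
def stp8 (off v : Nat) : Nat := Nat.land (Nat.add (Nat.land (Nat.shiftRight tA8 (Nat.mul v 14)) 16383) off) 16639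
theorem stp8_eq : ∀ off v, stp8 off v = step par (tabs 8) off v := fun _ _ => rfl
attribute [irreducible] stp8
def je9 (v : Nat) : Nat := Nat.land (Nat.shiftRight tJ9 (Nat.mul v 14)) 16383
def stp9 (off v : Nat) : Nat := Nat.land (Nat.add (Nat.land (Nat.shiftRight tA9 (Nat.mul v 14)) 16383) off) 16639
theorem stp9_eq : ∀ off v, stp9 off v = step par (tabs 9) off v := fun _ _ => rfl
attribute [irreducible] stp9
def je : Nat → Nat → Nat
  | 0 => je0
  | 1 => je1
  | 2 => je2
  | 3 => je3
  | 4 => je4
  | 5 => je5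
  | 6 => je6
  | 7 => je7
  | 8 => je8
  | 9 => je9
  | _ => fun _ => 0
def st : Nat → Nat → Nat → Nat
  | 0 => stp0
  | 1 => stp1
  | 2 => stp2
  | 3 => stp3
  | 4 => stp4
  | 5 => stp5
  | 6 => stp6
  | 7 => stp7
  | 8 => stp8
  | 9 => stp9
  | _ => fun off v => step par 0 off v
theorem hst : ∀ l off v, st l off v = step par (tabs l) off v := by
  intro l off v
  rcases Nat.lt_or_ge l 10 with h | h
  · interval_cases l
    exacts [stp0_eq off v, stp1_eq off v, stp2_eq off v, stp3_eq off v, stp4_eq off v, stp5_eq off v, stp6_eq off v, stp7_eq off v, stp8_eq off v, stp9_eq off v]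
  · obtain ⟨k, rfl⟩ : ∃ k, l = k + 10 := ⟨l - 10, by omega⟩
    rfl
def lf0_0 : Leaf (walkS st) := ⟨[0], [], 0, 0, (fun off v => (stp0 off v)), (fun _ v => v), (fun _ u _ => u), fun _ _ => rfl, fun _ _ => rfl⟩
def lf0_1 : Leaf (walkS st) := ⟨[], [7, 0, 7], 16, 2, (fun _ v => v), (fun off v => (stp7 off (stp0 off (stp7 off v)))), (fun v _ _ => v), fun _ _ => rfl, fun _ _ => rfl⟩
def lf0_2 : Leaf (walkS st) := ⟨[], [4, 0, 4], 13, 2, (fun _ v => v), (fun off v => (stp4 off (stp0 off (stp4 off v)))), (fun v _ _ => v), fun _ _ => rfl, fun _ _ => rfl⟩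
def lf0_3 : Leaf (walkS st) := ⟨[], [5, 0, 5], 14, 2, (fun _ v => v), (fun off v => (stp5 off (stp0 off (stp5 off v)))), (fun v _ _ => v), fun _ _ => rfl, fun _ _ => rfl⟩
def lf0_4 : Leaf (walkS st) := ⟨[], [8, 0, 8], 17, 2, (fun _ v => v), (fun off v => (stp8 off (stp0 off (stp8 off v)))), (fun v _ _ => v), fun _ _ => rfl, fun _ _ => rfl⟩
def lf0_5 : Leaf (walkS st) := ⟨[], [9, 0], 0, 0, (fun _ v => v), (fun off v => (stp0 off (stp9 off v))), (fun v _ _ => v), fun _ _ => rfl, fun _ _ => rfl⟩
def lf0_7 : Leaf (walkS st) := ⟨[], [2, 0, 2], 11, 2, (fun _ v => v), (fun off v => (stp2 off (stp0 off (stp2 off v)))), (fun v _ _ => v), fun _ _ => rfl, fun _ _ => rfl⟩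
def lf0_8 : Leaf (walkS st) := ⟨[], [3, 0, 3], 12, 2, (fun _ v => v), (fun off v => (stp3 off (stp0 off (stp3 off v)))), (fun v _ _ => v), fun _ _ => rfl, fun _ _ => rfl⟩
def lf0_9 : Leaf (walkS st) := ⟨[], [6, 0, 6], 15, 2, (fun _ v => v), (fun off v => (stp6 off (stp0 off (stp6 off v)))), (fun v _ _ => v), fun _ _ => rfl, fun _ _ => rfl⟩
def tree0 : RTree (walkS st) :=
  (.node 2 (.node 1 (.fork lf0_0) (.fork lf0_1)) (.node 5 (.node 3 (.fork lf0_2) (.node 4 (.fork lf0_3) (.fork lf0_4))) (.node 7 (.node 6 (.fork lf0_5) .tleaf) (.node 8 (.fork lf0_7) (.node 9 (.fork lf0_8) (.fork lf0_9))))))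
def lf1_0 : Leaf (walkS st) := ⟨[1], [], 1, 0, (fun off v => (stp1 off v)), (fun _ v => v), (fun _ u _ => u), fun _ _ => rfl, fun _ _ => rfl⟩
def lf1_1 : Leaf (walkS st) := ⟨[], [9, 1], 1, 0, (fun _ v => v), (fun off v => (stp1 off (stp9 off v))), (fun v _ _ => v), fun _ _ => rfl, fun _ _ => rfl⟩
def lf1_3 : Leaf (walkS st) := ⟨[], [7, 1, 7], 23, 2, (fun _ v => v), (fun off v => (stp7 off (stp1 off (stp7 off v)))), (fun v _ _ => v), fun _ _ => rfl, fun _ _ => rfl⟩
def lf1_4 : Leaf (walkS st) := ⟨[], [4, 1, 4], 20, 2, (fun _ v => v), (fun off v => (stp4 off (stp1 off (stp4 off v)))), (fun v _ _ => v), fun _ _ => rfl, fun _ _ => rfl⟩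
def lf1_5 : Leaf (walkS st) := ⟨[], [5, 1, 5], 21, 2, (fun _ v => v), (fun off v => (stp5 off (stp1 off (stp5 off v)))), (fun v _ _ => v), fun _ _ => rfl, fun _ _ => rfl⟩
def lf1_6 : Leaf (walkS st) := ⟨[], [8, 1, 8], 24, 2, (fun _ v => v), (fun off v => (stp8 off (stp1 off (stp8 off v)))), (fun v _ _ => v), fun _ _ => rfl, fun _ _ => rfl⟩
def lf1_7 : Leaf (walkS st) := ⟨[], [3, 1, 3], 19, 2, (fun _ v => v), (fun off v => (stp3 off (stp1 off (stp3 off v)))), (fun v _ _ => v), fun _ _ => rfl, fun _ _ => rfl⟩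
def lf1_8 : Leaf (walkS st) := ⟨[], [6, 1, 6], 22, 2, (fun _ v => v), (fun off v => (stp6 off (stp1 off (stp6 off v)))), (fun v _ _ => v), fun _ _ => rfl, fun _ _ => rfl⟩
def lf1_9 : Leaf (walkS st) := ⟨[], [0, 1, 0, 1, 0], 10, 1, (fun _ v => v), (fun off v => (stp0 off (stp1 off (stp0 off (stp1 off (stp0 off v)))))), (fun v _ _ => v), fun _ _ => rfl, fun _ _ => rfl⟩
def lf1_10 : Leaf (walkS st) := ⟨[9], [1], 1, 0, (fun off v => (stp9 off v)), (fun off v => (stp1 off v)), (fun _ _ p => p), fun _ _ => rfl, fun _ _ => rfl⟩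
def tree1 : RTree (walkS st) :=
  (.node 2 (.node 1 (.fork lf1_0) (.fork lf1_1)) (.node 5 (.node 3 .tleaf (.node 4 (.fork lf1_3) (.fork lf1_4))) (.node 6 (.fork lf1_5) (.node 7 (.fork lf1_6) (.node 9 (.node 8 (.fork lf1_7) (.fork lf1_8)) (.node 10 (.fork lf1_9) (.fork lf1_10)))))))
def lf2_0 : Leaf (walkS st) := ⟨[2], [], 2, 0, (fun off v => (stp2 off v)), (fun _ v => v), (fun _ u _ => u), fun _ _ => rfl, fun _ _ => rfl⟩
def lf2_2 : Leaf (walkS st) := ⟨[9], [2], 2, 0, (fun off v => (stp9 off v)), (fun off v => (stp2 off v)), (fun _ _ p => p), fun _ _ => rfl, fun _ _ => rfl⟩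
def lf2_3 : Leaf (walkS st) := ⟨[], [4, 2, 4], 26, 2, (fun _ v => v), (fun off v => (stp4 off (stp2 off (stp4 off v)))), (fun v _ _ => v), fun _ _ => rfl, fun _ _ => rfl⟩
def lf2_4 : Leaf (walkS st) := ⟨[], [5, 2, 5], 27, 2, (fun _ v => v), (fun off v => (stp5 off (stp2 off (stp5 off v)))), (fun v _ _ => v), fun _ _ => rfl, fun _ _ => rfl⟩
def lf2_5 : Leaf (walkS st) := ⟨[], [8, 2, 8], 30, 2, (fun _ v => v), (fun off v => (stp8 off (stp2 off (stp8 off v)))), (fun v _ _ => v), fun _ _ => rfl, fun _ _ => rfl⟩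
def lf2_6 : Leaf (walkS st) := ⟨[], [9, 2], 2, 0, (fun _ v => v), (fun off v => (stp2 off (stp9 off v))), (fun v _ _ => v), fun _ _ => rfl, fun _ _ => rfl⟩
def lf2_7 : Leaf (walkS st) := ⟨[], [7, 2, 7], 29, 2, (fun _ v => v), (fun off v => (stp7 off (stp2 off (stp7 off v)))), (fun v _ _ => v), fun _ _ => rfl, fun _ _ => rfl⟩
def lf2_8 : Leaf (walkS st) := ⟨[], [6, 2, 6], 28, 2, (fun _ v => v), (fun off v => (stp6 off (stp2 off (stp6 off v)))), (fun v _ _ => v), fun _ _ => rfl, fun _ _ => rfl⟩
def lf2_9 : Leaf (walkS st) := ⟨[], [1, 2, 1, 2, 1], 18, 1, (fun _ v => v), (fun off v => (stp1 off (stp2 off (stp1 off (stp2 off (stp1 off v)))))), (fun v _ _ => v), fun _ _ => rfl, fun _ _ => rfl⟩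
def lf2_10 : Leaf (walkS st) := ⟨[], [5, 1, 7, 4, 3, 0, 8], 49, 1, (fun _ v => v), (fun off v => (stp8 off (stp0 off (stp3 off (stp4 off (stp7 off (stp1 off (stp5 off v)))))))), (fun v _ _ => v), fun _ _ => rfl, fun _ _ => rfl⟩
def lf2_11 : Leaf (walkS st) := ⟨[], [8, 0, 3, 4, 7, 1, 5], 9, 6, (fun _ v => v), (fun off v => (stp5 off (stp1 off (stp7 off (stp4 off (stp3 off (stp0 off (stp8 off v)))))))), (fun v _ _ => v), fun _ _ => rfl, fun _ _ => rfl⟩
def tree2 : RTree (walkS st) :=
  (.node 2 (.node 1 (.fork lf2_0) .tleaf) (.node 5 (.node 3 (.fork lf2_2) (.node 4 (.fork lf2_3) (.fork lf2_4))) (.node 7 (.node 6 (.fork lf2_5) (.fork lf2_6)) (.node 9 (.node 8 (.fork lf2_7) (.fork lf2_8)) (.node 10 (.fork lf2_9) (.node 11 (.fork lf2_10) (.fork lf2_11)))))))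
def lf3_0 : Leaf (walkS st) := ⟨[3], [], 3, 0, (fun off v => (stp3 off v)), (fun _ v => v), (fun _ u _ => u), fun _ _ => rfl, fun _ _ => rfl⟩
def lf3_2 : Leaf (walkS st) := ⟨[], [9, 3], 3, 0, (fun _ v => v), (fun off v => (stp3 off (stp9 off v))), (fun v _ _ => v), fun _ _ => rfl, fun _ _ => rfl⟩
def lf3_3 : Leaf (walkS st) := ⟨[], [5, 3, 5], 32, 2, (fun _ v => v), (fun off v => (stp5 off (stp3 off (stp5 off v)))), (fun v _ _ => v), fun _ _ => rfl, fun _ _ => rfl⟩
def lf3_4 : Leaf (walkS st) := ⟨[], [8, 3, 8], 35, 2, (fun _ v => v), (fun off v => (stp8 off (stp3 off (stp8 off v)))), (fun v _ _ => v), fun _ _ => rfl, fun _ _ => rfl⟩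
def lf3_5 : Leaf (walkS st) := ⟨[], [6, 3, 6], 33, 2, (fun _ v => v), (fun off v => (stp6 off (stp3 off (stp6 off v)))), (fun v _ _ => v), fun _ _ => rfl, fun _ _ => rfl⟩
def lf3_6 : Leaf (walkS st) := ⟨[], [2, 3, 2, 3, 2], 25, 1, (fun _ v => v), (fun off v => (stp2 off (stp3 off (stp2 off (stp3 off (stp2 off v)))))), (fun v _ _ => v), fun _ _ => rfl, fun _ _ => rfl⟩
def lf3_7 : Leaf (walkS st) := ⟨[9, 9], [3], 3, 0, (fun off v => (stp9 off (stp9 off v))), (fun off v => (stp3 off v)), (fun _ _ p => p), fun _ _ => rfl, fun _ _ => rfl⟩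
def tree3 : RTree (walkS st) :=
  (.node 1 (.fork lf3_0) (.node 2 .tleaf (.node 4 (.node 3 (.fork lf3_2) (.fork lf3_3)) (.node 5 (.fork lf3_4) (.node 6 (.fork lf3_5) (.node 7 (.fork lf3_6) (.fork lf3_7)))))))
def lf4_0 : Leaf (walkS st) := ⟨[4], [], 4, 0, (fun off v => (stp4 off v)), (fun _ v => v), (fun _ u _ => u), fun _ _ => rfl, fun _ _ => rfl⟩
def lf4_2 : Leaf (walkS st) := ⟨[], [7, 4, 7], 38, 2, (fun _ v => v), (fun off v => (stp7 off (stp4 off (stp7 off v)))), (fun v _ _ => v), fun _ _ => rfl, fun _ _ => rfl⟩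
def lf4_3 : Leaf (walkS st) := ⟨[], [8, 4, 8], 39, 2, (fun _ v => v), (fun off v => (stp8 off (stp4 off (stp8 off v)))), (fun v _ _ => v), fun _ _ => rfl, fun _ _ => rfl⟩
def lf4_4 : Leaf (walkS st) := ⟨[9], [4], 4, 0, (fun off v => (stp9 off v)), (fun off v => (stp4 off v)), (fun _ _ p => p), fun _ _ => rfl, fun _ _ => rfl⟩
def lf4_5 : Leaf (walkS st) := ⟨[], [9, 4], 4, 0, (fun _ v => v), (fun off v => (stp4 off (stp9 off v))), (fun v _ _ => v), fun _ _ => rfl, fun _ _ => rfl⟩
def lf4_6 : Leaf (walkS st) := ⟨[], [6, 4, 6], 37, 2, (fun _ v => v), (fun off v => (stp6 off (stp4 off (stp6 off v)))), (fun v _ _ => v), fun _ _ => rfl, fun _ _ => rfl⟩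
def lf4_7 : Leaf (walkS st) := ⟨[], [3, 4, 3, 4, 3], 31, 1, (fun _ v => v), (fun off v => (stp3 off (stp4 off (stp3 off (stp4 off (stp3 off v)))))), (fun v _ _ => v), fun _ _ => rfl, fun _ _ => rfl⟩
def tree4 : RTree (walkS st) :=
  (.node 1 (.fork lf4_0) (.node 2 .tleaf (.node 3 (.fork lf4_2) (.node 5 (.node 4 (.fork lf4_3) (.fork lf4_4)) (.node 6 (.fork lf4_5) (.node 7 (.fork lf4_6) (.fork lf4_7)))))))
def lf5_0 : Leaf (walkS st) := ⟨[5], [], 5, 0, (fun off v => (stp5 off v)), (fun _ v => v), (fun _ u _ => u), fun _ _ => rfl, fun _ _ => rfl⟩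
def lf5_2 : Leaf (walkS st) := ⟨[], [7, 5, 7], 41, 2, (fun _ v => v), (fun off v => (stp7 off (stp5 off (stp7 off v)))), (fun v _ _ => v), fun _ _ => rfl, fun _ _ => rfl⟩
def lf5_3 : Leaf (walkS st) := ⟨[], [8, 5, 8], 42, 2, (fun _ v => v), (fun off v => (stp8 off (stp5 off (stp8 off v)))), (fun v _ _ => v), fun _ _ => rfl, fun _ _ => rfl⟩
def lf5_4 : Leaf (walkS st) := ⟨[9], [5], 5, 0, (fun off v => (stp9 off v)), (fun off v => (stp5 off v)), (fun _ _ p => p), fun _ _ => rfl, fun _ _ => rfl⟩
def lf5_5 : Leaf (walkS st) := ⟨[], [9, 5], 5, 0, (fun _ v => v), (fun off v => (stp5 off (stp9 off v))), (fun v _ _ => v), fun _ _ => rfl, fun _ _ => rfl⟩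
def lf5_6 : Leaf (walkS st) := ⟨[], [4, 5, 4, 5, 4], 36, 1, (fun _ v => v), (fun off v => (stp4 off (stp5 off (stp4 off (stp5 off (stp4 off v)))))), (fun v _ _ => v), fun _ _ => rfl, fun _ _ => rfl⟩
def lf5_7 : Leaf (walkS st) := ⟨[], [3, 5, 3], 32, 1, (fun _ v => v), (fun off v => (stp3 off (stp5 off (stp3 off v)))), (fun v _ _ => v), fun _ _ => rfl, fun _ _ => rfl⟩
def lf5_8 : Leaf (walkS st) := ⟨[], [2, 5, 2], 27, 3, (fun _ v => v), (fun off v => (stp2 off (stp5 off (stp2 off v)))), (fun v _ _ => v), fun _ _ => rfl, fun _ _ => rfl⟩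
def lf5_9 : Leaf (walkS st) := ⟨[], [2, 8, 0, 3, 4, 7, 1], 9, 7, (fun _ v => v), (fun off v => (stp1 off (stp7 off (stp4 off (stp3 off (stp0 off (stp8 off (stp2 off v)))))))), (fun v _ _ => v), fun _ _ => rfl, fun _ _ => rfl⟩
def tree5 : RTree (walkS st) :=
  (.node 1 (.fork lf5_0) (.node 2 .tleaf (.node 4 (.node 3 (.fork lf5_2) (.fork lf5_3)) (.node 6 (.node 5 (.fork lf5_4) (.fork lf5_5)) (.node 8 (.node 7 (.fork lf5_6) (.fork lf5_7)) (.node 9 (.fork lf5_8) (.fork lf5_9)))))))
def lf6_0 : Leaf (walkS st) := ⟨[6], [], 6, 0, (fun off v => (stp6 off v)), (fun _ v => v), (fun _ u _ => u), fun _ _ => rfl, fun _ _ => rfl⟩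
def lf6_2 : Leaf (walkS st) := ⟨[], [7, 6, 7], 43, 2, (fun _ v => v), (fun off v => (stp7 off (stp6 off (stp7 off v)))), (fun v _ _ => v), fun _ _ => rfl, fun _ _ => rfl⟩
def lf6_3 : Leaf (walkS st) := ⟨[], [8, 6, 8], 44, 2, (fun _ v => v), (fun off v => (stp8 off (stp6 off (stp8 off v)))), (fun v _ _ => v), fun _ _ => rfl, fun _ _ => rfl⟩
def lf6_4 : Leaf (walkS st) := ⟨[], [5, 6, 5, 6, 5], 40, 1, (fun _ v => v), (fun off v => (stp5 off (stp6 off (stp5 off (stp6 off (stp5 off v)))))), (fun v _ _ => v), fun _ _ => rfl, fun _ _ => rfl⟩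
def lf6_5 : Leaf (walkS st) := ⟨[9], [6], 6, 0, (fun off v => (stp9 off v)), (fun off v => (stp6 off v)), (fun _ _ p => p), fun _ _ => rfl, fun _ _ => rfl⟩
def tree6 : RTree (walkS st) :=
  (.node 1 (.fork lf6_0) (.node 2 .tleaf (.node 3 (.fork lf6_2) (.node 4 (.fork lf6_3) (.node 5 (.fork lf6_4) (.fork lf6_5))))))
def lf7_0 : Leaf (walkS st) := ⟨[7], [], 7, 0, (fun off v => (stp7 off v)), (fun _ v => v), (fun _ u _ => u), fun _ _ => rfl, fun _ _ => rfl⟩
def lf7_2 : Leaf (walkS st) := ⟨[], [9, 7], 7, 0, (fun _ v => v), (fun off v => (stp7 off (stp9 off v))), (fun v _ _ => v), fun _ _ => rfl, fun _ _ => rfl⟩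
def lf7_3 : Leaf (walkS st) := ⟨[9], [7], 7, 0, (fun off v => (stp9 off v)), (fun off v => (stp7 off v)), (fun _ _ p => p), fun _ _ => rfl, fun _ _ => rfl⟩
def lf7_4 : Leaf (walkS st) := ⟨[], [5, 7, 5], 41, 3, (fun _ v => v), (fun off v => (stp5 off (stp7 off (stp5 off v)))), (fun v _ _ => v), fun _ _ => rfl, fun _ _ => rfl⟩
def lf7_5 : Leaf (walkS st) := ⟨[], [3, 7, 3, 7, 3], 34, 1, (fun _ v => v), (fun off v => (stp3 off (stp7 off (stp3 off (stp7 off (stp3 off v)))))), (fun v _ _ => v), fun _ _ => rfl, fun _ _ => rfl⟩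
def lf7_6 : Leaf (walkS st) := ⟨[], [1, 7, 1], 23, 3, (fun _ v => v), (fun off v => (stp1 off (stp7 off (stp1 off v)))), (fun v _ _ => v), fun _ _ => rfl, fun _ _ => rfl⟩
def lf7_7 : Leaf (walkS st) := ⟨[9, 9], [7], 7, 0, (fun off v => (stp9 off (stp9 off v))), (fun off v => (stp7 off v)), (fun _ _ p => p), fun _ _ => rfl, fun _ _ => rfl⟩
def tree7 : RTree (walkS st) :=
  (.node 1 (.fork lf7_0) (.node 2 .tleaf (.node 4 (.node 3 (.fork lf7_2) (.fork lf7_3)) (.node 5 (.fork lf7_4) (.node 6 (.fork lf7_5) (.node 7 (.fork lf7_6) (.fork lf7_7)))))))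
def lf8_1 : Leaf (walkS st) := ⟨[8], [], 8, 0, (fun off v => (stp8 off v)), (fun _ v => v), (fun _ u _ => u), fun _ _ => rfl, fun _ _ => rfl⟩
def lf8_2 : Leaf (walkS st) := ⟨[9], [8], 8, 0, (fun off v => (stp9 off v)), (fun off v => (stp8 off v)), (fun _ _ p => p), fun _ _ => rfl, fun _ _ => rfl⟩
def lf8_3 : Leaf (walkS st) := ⟨[], [7, 8, 7, 8, 7], 45, 1, (fun _ v => v), (fun off v => (stp7 off (stp8 off (stp7 off (stp8 off (stp7 off v)))))), (fun v _ _ => v), fun _ _ => rfl, fun _ _ => rfl⟩
def lf8_4 : Leaf (walkS st) := ⟨[], [5, 8, 5], 42, 3, (fun _ v => v), (fun off v => (stp5 off (stp8 off (stp5 off v)))), (fun v _ _ => v), fun _ _ => rfl, fun _ _ => rfl⟩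
def lf8_5 : Leaf (walkS st) := ⟨[], [2, 8, 2], 30, 3, (fun _ v => v), (fun off v => (stp2 off (stp8 off (stp2 off v)))), (fun v _ _ => v), fun _ _ => rfl, fun _ _ => rfl⟩
def lf8_6 : Leaf (walkS st) := ⟨[], [4, 8, 4], 39, 1, (fun _ v => v), (fun off v => (stp4 off (stp8 off (stp4 off v)))), (fun v _ _ => v), fun _ _ => rfl, fun _ _ => rfl⟩
def tree8 : RTree (walkS st) :=
  (.node 1 .tleaf (.node 2 (.fork lf8_1) (.node 3 (.fork lf8_2) (.node 5 (.node 4 (.fork lf8_3) (.fork lf8_4)) (.node 6 (.fork lf8_5) (.fork lf8_6))))))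
def lf9_0 : Leaf (walkS st) := ⟨[7], [9, 7], 7, 0, (fun off v => (stp7 off v)), (fun off v => (stp7 off (stp9 off v))), (fun _ _ p => p), fun _ _ => rfl, fun _ _ => rfl⟩
def lf9_1 : Leaf (walkS st) := ⟨[5], [9, 5], 5, 0, (fun off v => (stp5 off v)), (fun off v => (stp5 off (stp9 off v))), (fun _ _ p => p), fun _ _ => rfl, fun _ _ => rfl⟩
def lf9_2 : Leaf (walkS st) := ⟨[4], [9, 4], 4, 0, (fun off v => (stp4 off v)), (fun off v => (stp4 off (stp9 off v))), (fun _ _ p => p), fun _ _ => rfl, fun _ _ => rfl⟩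
def lf9_3 : Leaf (walkS st) := ⟨[8], [9, 8], 8, 0, (fun off v => (stp8 off v)), (fun off v => (stp8 off (stp9 off v))), (fun _ _ p => p), fun _ _ => rfl, fun _ _ => rfl⟩
def lf9_4 : Leaf (walkS st) := ⟨[6], [9, 6], 6, 0, (fun off v => (stp6 off v)), (fun off v => (stp6 off (stp9 off v))), (fun _ _ p => p), fun _ _ => rfl, fun _ _ => rfl⟩
def lf9_5 : Leaf (walkS st) := ⟨[3], [9, 3], 3, 0, (fun off v => (stp3 off v)), (fun off v => (stp3 off (stp9 off v))), (fun _ _ p => p), fun _ _ => rfl, fun _ _ => rfl⟩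
def lf9_6 : Leaf (walkS st) := ⟨[0], [9, 0], 0, 0, (fun off v => (stp0 off v)), (fun off v => (stp0 off (stp9 off v))), (fun _ _ p => p), fun _ _ => rfl, fun _ _ => rfl⟩
def lf9_7 : Leaf (walkS st) := ⟨[9, 1], [1], 1, 0, (fun off v => (stp1 off (stp9 off v))), (fun off v => (stp1 off v)), (fun _ _ p => p), fun _ _ => rfl, fun _ _ => rfl⟩
def lf9_8 : Leaf (walkS st) := ⟨[2], [9, 2], 2, 0, (fun off v => (stp2 off v)), (fun off v => (stp2 off (stp9 off v))), (fun _ _ p => p), fun _ _ => rfl, fun _ _ => rfl⟩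
def lf9_9 : Leaf (walkS st) := ⟨[9, 0], [0, 9], 0, 0, (fun off v => (stp0 off (stp9 off v))), (fun off v => (stp9 off (stp0 off v))), (fun _ _ p => p), fun _ _ => rfl, fun _ _ => rfl⟩
def lf9_10 : Leaf (walkS st) := ⟨[1, 9, 9], [9, 1], 1, 0, (fun off v => (stp9 off (stp9 off (stp1 off v)))), (fun off v => (stp1 off (stp9 off v))), (fun _ _ p => p), fun _ _ => rfl, fun _ _ => rfl⟩
def lf9_11 : Leaf (walkS st) := ⟨[0], [9, 9, 0], 0, 0, (fun off v => (stp0 off v)), (fun off v => (stp0 off (stp9 off (stp9 off v)))), (fun _ _ p => p), fun _ _ => rfl, fun _ _ => rfl⟩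
def lf9_12 : Leaf (walkS st) := ⟨[0, 9], [9, 9, 0], 0, 0, (fun off v => (stp9 off (stp0 off v))), (fun off v => (stp0 off (stp9 off (stp9 off v)))), (fun _ _ p => p), fun _ _ => rfl, fun _ _ => rfl⟩
def lf9_13 : Leaf (walkS st) := ⟨[6], [9, 9, 6], 6, 0, (fun off v => (stp6 off v)), (fun off v => (stp6 off (stp9 off (stp9 off v)))), (fun _ _ p => p), fun _ _ => rfl, fun _ _ => rfl⟩
def lf9_14 : Leaf (walkS st) := ⟨[], [2, 7, 2, 7], 69, 0, (fun _ v => v), (fun off v => (stp7 off (stp2 off (stp7 off (stp2 off v))))), (fun v _ _ => v), fun _ _ => rfl, fun _ _ => rfl⟩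
def lf9_15 : Leaf (walkS st) := ⟨[], [8, 7, 8, 7, 8, 7], 85, 3, (fun _ v => v), (fun off v => (stp7 off (stp8 off (stp7 off (stp8 off (stp7 off (stp8 off v))))))), (fun v _ _ => v), fun _ _ => rfl, fun _ _ => rfl⟩
def lf9_16 : Leaf (walkS st) := ⟨[], [1, 7, 4, 3, 0, 8, 2, 5], 49, 0, (fun _ v => v), (fun off v => (stp5 off (stp2 off (stp8 off (stp0 off (stp3 off (stp4 off (stp7 off (stp1 off v))))))))), (fun v _ _ => v), fun _ _ => rfl, fun _ _ => rfl⟩
def lf9_17 : Leaf (walkS st) := ⟨[2, 9], [9, 2], 2, 0, (fun off v => (stp9 off (stp2 off v))), (fun off v => (stp2 off (stp9 off v))), (fun _ _ p => p), fun _ _ => rfl, fun _ _ => rfl⟩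
def lf9_18 : Leaf (walkS st) := ⟨[1], [9, 9, 1], 1, 0, (fun off v => (stp1 off v)), (fun off v => (stp1 off (stp9 off (stp9 off v)))), (fun _ _ p => p), fun _ _ => rfl, fun _ _ => rfl⟩
def lf9_19 : Leaf (walkS st) := ⟨[9, 0], [0], 0, 0, (fun off v => (stp0 off (stp9 off v))), (fun off v => (stp0 off v)), (fun _ _ p => p), fun _ _ => rfl, fun _ _ => rfl⟩
def lf9_20 : Leaf (walkS st) := ⟨[5, 9], [9, 5], 5, 0, (fun off v => (stp9 off (stp5 off v))), (fun off v => (stp5 off (stp9 off v))), (fun _ _ p => p), fun _ _ => rfl, fun _ _ => rfl⟩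
def lf9_21 : Leaf (walkS st) := ⟨[], [4, 0, 4, 0], 53, 1, (fun _ v => v), (fun off v => (stp0 off (stp4 off (stp0 off (stp4 off v))))), (fun v _ _ => v), fun _ _ => rfl, fun _ _ => rfl⟩
def lf9_22 : Leaf (walkS st) := ⟨[], [3, 8, 3, 8], 35, 3, (fun _ v => v), (fun off v => (stp8 off (stp3 off (stp8 off (stp3 off v))))), (fun v _ _ => v), fun _ _ => rfl, fun _ _ => rfl⟩
def lf9_23 : Leaf (walkS st) := ⟨[], [5, 8, 5, 8], 42, 3, (fun _ v => v), (fun off v => (stp8 off (stp5 off (stp8 off (stp5 off v))))), (fun v _ _ => v), fun _ _ => rfl, fun _ _ => rfl⟩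
def lf9_24 : Leaf (walkS st) := ⟨[], [2, 5, 2, 5], 27, 1, (fun _ v => v), (fun off v => (stp5 off (stp2 off (stp5 off (stp2 off v))))), (fun v _ _ => v), fun _ _ => rfl, fun _ _ => rfl⟩
def lf9_25 : Leaf (walkS st) := ⟨[7], [9, 9, 7], 7, 0, (fun off v => (stp7 off v)), (fun off v => (stp7 off (stp9 off (stp9 off v)))), (fun _ _ p => p), fun _ _ => rfl, fun _ _ => rfl⟩
def lf9_26 : Leaf (walkS st) := ⟨[5], [9, 5, 9], 5, 0, (fun off v => (stp5 off v)), (fun off v => (stp9 off (stp5 off (stp9 off v)))), (fun _ _ p => p), fun _ _ => rfl, fun _ _ => rfl⟩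
def lf9_27 : Leaf (walkS st) := ⟨[3, 9, 9, 9], [9, 3], 3, 0, (fun off v => (stp9 off (stp9 off (stp9 off (stp3 off v))))), (fun off v => (stp3 off (stp9 off v))), (fun _ _ p => p), fun _ _ => rfl, fun _ _ => rfl⟩
def lf9_28 : Leaf (walkS st) := ⟨[2, 9], [9, 9, 9, 2, 9, 9], 2, 0, (fun off v => (stp9 off (stp2 off v))), (fun off v => (stp9 off (stp9 off (stp2 off (stp9 off (stp9 off (stp9 off v))))))), (fun _ _ p => p), fun _ _ => rfl, fun _ _ => rfl⟩
def lf9_29 : Leaf (walkS st) := ⟨[4, 9], [9, 4], 4, 0, (fun off v => (stp9 off (stp4 off v))), (fun off v => (stp4 off (stp9 off v))), (fun _ _ p => p), fun _ _ => rfl, fun _ _ => rfl⟩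
def lf9_30 : Leaf (walkS st) := ⟨[9, 8], [8, 9], 8, 0, (fun off v => (stp8 off (stp9 off v))), (fun off v => (stp9 off (stp8 off v))), (fun _ _ p => p), fun _ _ => rfl, fun _ _ => rfl⟩
def lf9_31 : Leaf (walkS st) := ⟨[8, 9, 9], [9, 8, 9], 8, 0, (fun off v => (stp9 off (stp9 off (stp8 off v)))), (fun off v => (stp9 off (stp8 off (stp9 off v)))), (fun _ _ p => p), fun _ _ => rfl, fun _ _ => rfl⟩
def lf9_32 : Leaf (walkS st) := ⟨[9, 8], [8], 8, 0, (fun off v => (stp8 off (stp9 off v))), (fun off v => (stp8 off v)), (fun _ _ p => p), fun _ _ => rfl, fun _ _ => rfl⟩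
def lf9_33 : Leaf (walkS st) := ⟨[9, 7], [7], 7, 0, (fun off v => (stp7 off (stp9 off v))), (fun off v => (stp7 off v)), (fun _ _ p => p), fun _ _ => rfl, fun _ _ => rfl⟩
def lf9_34 : Leaf (walkS st) := ⟨[9, 3], [3, 9, 9], 3, 0, (fun off v => (stp3 off (stp9 off v))), (fun off v => (stp9 off (stp9 off (stp3 off v)))), (fun _ _ p => p), fun _ _ => rfl, fun _ _ => rfl⟩
def lf9_35 : Leaf (walkS st) := ⟨[9, 5], [5, 9], 5, 0, (fun off v => (stp5 off (stp9 off v))), (fun off v => (stp9 off (stp5 off v))), (fun _ _ p => p), fun _ _ => rfl, fun _ _ => rfl⟩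
def lf9_36 : Leaf (walkS st) := ⟨[4], [9, 4, 9], 4, 0, (fun off v => (stp4 off v)), (fun off v => (stp9 off (stp4 off (stp9 off v)))), (fun _ _ p => p), fun _ _ => rfl, fun _ _ => rfl⟩
def lf9_37 : Leaf (walkS st) := ⟨[8, 9], [9, 8], 8, 0, (fun off v => (stp9 off (stp8 off v))), (fun off v => (stp8 off (stp9 off v))), (fun _ _ p => p), fun _ _ => rfl, fun _ _ => rfl⟩
def lf9_38 : Leaf (walkS st) := ⟨[2, 9], [9, 2, 9, 9], 2, 0, (fun off v => (stp9 off (stp2 off v))), (fun off v => (stp9 off (stp9 off (stp2 off (stp9 off v))))), (fun _ _ p => p), fun _ _ => rfl, fun _ _ => rfl⟩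
def lf9_39 : Leaf (walkS st) := ⟨[9, 3, 9], [3], 3, 0, (fun off v => (stp9 off (stp3 off (stp9 off v)))), (fun off v => (stp3 off v)), (fun _ _ p => p), fun _ _ => rfl, fun _ _ => rfl⟩
def lf9_40 : Leaf (walkS st) := ⟨[5, 9], [9, 5, 9], 5, 0, (fun off v => (stp9 off (stp5 off v))), (fun off v => (stp9 off (stp5 off (stp9 off v)))), (fun _ _ p => p), fun _ _ => rfl, fun _ _ => rfl⟩
def lf9_41 : Leaf (walkS st) := ⟨[8, 9, 9], [9, 9, 9, 8], 8, 0, (fun off v => (stp9 off (stp9 off (stp8 off v)))), (fun off v => (stp8 off (stp9 off (stp9 off (stp9 off v))))), (fun _ _ p => p), fun _ _ => rfl, fun _ _ => rfl⟩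
def lf9_42 : Leaf (walkS st) := ⟨[4], [9, 9, 4], 4, 0, (fun off v => (stp4 off v)), (fun off v => (stp4 off (stp9 off (stp9 off v)))), (fun _ _ p => p), fun _ _ => rfl, fun _ _ => rfl⟩
def lf9_43 : Leaf (walkS st) := ⟨[9, 5, 9], [5], 5, 0, (fun off v => (stp9 off (stp5 off (stp9 off v)))), (fun off v => (stp5 off v)), (fun _ _ p => p), fun _ _ => rfl, fun _ _ => rfl⟩
def lf9_44 : Leaf (walkS st) := ⟨[7, 9], [9, 7], 7, 0, (fun off v => (stp9 off (stp7 off v))), (fun off v => (stp7 off (stp9 off v))), (fun _ _ p => p), fun _ _ => rfl, fun _ _ => rfl⟩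
def lf9_45 : Leaf (walkS st) := ⟨[0], [9, 0, 9], 0, 0, (fun off v => (stp0 off v)), (fun off v => (stp9 off (stp0 off (stp9 off v)))), (fun _ _ p => p), fun _ _ => rfl, fun _ _ => rfl⟩
def lf9_46 : Leaf (walkS st) := ⟨[9, 4, 9], [4, 9], 4, 0, (fun off v => (stp9 off (stp4 off (stp9 off v)))), (fun off v => (stp9 off (stp4 off v))), (fun _ _ p => p), fun _ _ => rfl, fun _ _ => rfl⟩
def lf9_47 : Leaf (walkS st) := ⟨[0, 9], [9, 9, 9, 0], 0, 0, (fun off v => (stp9 off (stp0 off v))), (fun off v => (stp0 off (stp9 off (stp9 off (stp9 off v))))), (fun _ _ p => p), fun _ _ => rfl, fun _ _ => rfl⟩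
def lf9_48 : Leaf (walkS st) := ⟨[3], [9, 9, 9, 3, 9], 3, 0, (fun off v => (stp3 off v)), (fun off v => (stp9 off (stp3 off (stp9 off (stp9 off (stp9 off v)))))), (fun _ _ p => p), fun _ _ => rfl, fun _ _ => rfl⟩
def lf9_49 : Leaf (walkS st) := ⟨[4, 9], [9, 9, 9, 4], 4, 0, (fun off v => (stp9 off (stp4 off v))), (fun off v => (stp4 off (stp9 off (stp9 off (stp9 off v))))), (fun _ _ p => p), fun _ _ => rfl, fun _ _ => rfl⟩
def lf9_50 : Leaf (walkS st) := ⟨[9, 9, 9, 5], [5], 5, 0, (fun off v => (stp5 off (stp9 off (stp9 off (stp9 off v))))), (fun off v => (stp5 off v)), (fun _ _ p => p), fun _ _ => rfl, fun _ _ => rfl⟩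
def lf9_51 : Leaf (walkS st) := ⟨[6], [9, 9, 9, 6], 6, 0, (fun off v => (stp6 off v)), (fun off v => (stp6 off (stp9 off (stp9 off (stp9 off v))))), (fun _ _ p => p), fun _ _ => rfl, fun _ _ => rfl⟩
def lf9_52 : Leaf (walkS st) := ⟨[7, 9, 9], [9, 9, 9, 7, 9], 7, 0, (fun off v => (stp9 off (stp9 off (stp7 off v)))), (fun off v => (stp9 off (stp7 off (stp9 off (stp9 off (stp9 off v)))))), (fun _ _ p => p), fun _ _ => rfl, fun _ _ => rfl⟩
def lf9_53 : Leaf (walkS st) := ⟨[8, 9], [9, 9, 9, 8, 9], 8, 0, (fun off v => (stp9 off (stp8 off v))), (fun off v => (stp9 off (stp8 off (stp9 off (stp9 off (stp9 off v)))))), (fun _ _ p => p), fun _ _ => rfl, fun _ _ => rfl⟩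
def lf9_54 : Leaf (walkS st) := ⟨[8], [9, 9, 8, 9], 8, 0, (fun off v => (stp8 off v)), (fun off v => (stp9 off (stp8 off (stp9 off (stp9 off v))))), (fun _ _ p => p), fun _ _ => rfl, fun _ _ => rfl⟩
def lf9_55 : Leaf (walkS st) := ⟨[0], [9, 9, 0, 9], 0, 0, (fun off v => (stp0 off v)), (fun off v => (stp9 off (stp0 off (stp9 off (stp9 off v))))), (fun _ _ p => p), fun _ _ => rfl, fun _ _ => rfl⟩
def lf9_56 : Leaf (walkS st) := ⟨[9, 9, 7], [7, 9, 9], 7, 0, (fun off v => (stp7 off (stp9 off (stp9 off v)))), (fun off v => (stp9 off (stp9 off (stp7 off v)))), (fun _ _ p => p), fun _ _ => rfl, fun _ _ => rfl⟩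
def lf9_57 : Leaf (walkS st) := ⟨[3, 9], [9, 3, 9], 3, 0, (fun off v => (stp9 off (stp3 off v))), (fun off v => (stp9 off (stp3 off (stp9 off v)))), (fun _ _ p => p), fun _ _ => rfl, fun _ _ => rfl⟩
def lf9_58 : Leaf (walkS st) := ⟨[9, 5, 9], [5, 9, 9], 5, 0, (fun off v => (stp9 off (stp5 off (stp9 off v)))), (fun off v => (stp9 off (stp9 off (stp5 off v)))), (fun _ _ p => p), fun _ _ => rfl, fun _ _ => rfl⟩
def lf9_59 : Leaf (walkS st) := ⟨[7], [9, 7, 9], 7, 0, (fun off v => (stp7 off v)), (fun off v => (stp9 off (stp7 off (stp9 off v)))), (fun _ _ p => p), fun _ _ => rfl, fun _ _ => rfl⟩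
def lf9_60 : Leaf (walkS st) := ⟨[], [8, 2, 5, 1, 7, 4, 3, 0, 9], 49, 3, (fun _ v => v), (fun off v => (stp9 off (stp0 off (stp3 off (stp4 off (stp7 off (stp1 off (stp5 off (stp2 off (stp8 off v)))))))))), (fun v _ _ => v), fun _ _ => rfl, fun _ _ => rfl⟩
def lf9_61 : Leaf (walkS st) := ⟨[6, 9], [9, 6], 6, 0, (fun off v => (stp9 off (stp6 off v))), (fun off v => (stp6 off (stp9 off v))), (fun _ _ p => p), fun _ _ => rfl, fun _ _ => rfl⟩
def lf9_62 : Leaf (walkS st) := ⟨[], [7, 5, 4, 3, 2, 1, 0, 7, 5, 4, 3, 2, 1, 0, 7, 5, 4, 3, 2, 1, 0, 7, 5, 4, 3, 2, 1, 0, 7, 5, 4, 3, 2, 1, 0, 7, 5, 4, 3, 2, 1, 0, 7, 5, 4, 3, 2, 1, 0, 7, 5, 4, 3, 2, 1, 0, 7, 5, 4, 3, 2, 1, 0, 9, 9], 47, 0, (fun _ v => v), (fun off v => (stp9 off (stp9 off (stp0 off (stp1 off (stp2 off (stp3 off (stp4 off (stp5 off (stp7 off (stp0 off (stp1 off (stp2 off (stp3 off (stp4 off (stp5 off (stp7 off (stp0 off (stp1 off (stp2 off (stp3 off (stp4 off (stp5 off (stp7 off (stp0 off (stp1 off (stp2 off (stp3 off (stp4 off (stp5 off (stp7 off (stp0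 off (stp1 off (stp2 off (stp3 off (stp4 off (stp5 off (stp7 off (stp0 off (stp1 off (stp2 off (stp3 off (stp4 off (stp5 off (stp7 off (stp0 off (stp1 off (stp2 off (stp3 off (stp4 off (stp5 off (stp7 off (stp0 off (stp1 off (stp2 off (stp3 off (stp4 off (stp5 off (stp7 off (stp0 off (stp1 off (stp2 off (stp3 off (stp4 off (stp5 off (stp7 off v)))))))))))))))))))))))))))))))))))))))))))))))))))))))))))))))))), (fun v _ _ => v), fun _ _ => rfl, fun _ _ => rfl⟩
def tree9 : RTree (walkS st) :=
  (.node 6 (.node 2 (.node 1 (.fork lf9_0) (.fork lf9_1)) (.node 4 (.node 3 (.fork lf9_2) (.fork lf9_3)) (.node 5 (.fork lf9_4) (.fork lf9_5)))) (.node 29 (.node 13 (.node 9 (.node 7 (.fork lf9_6) (.node 8 (.fork lf9_7) (.fork lf9_8))) (.node 11 (.node 10 (.fork lf9_9) (.fork lf9_10)) (.node 12 (.fork lf9_11) (.fork lf9_12)))) (.node 20 (.node 16 (.node 14 (.fork lf9_13) (.node 15 (.fork lf9_14) (.fork lf9_15))) (.node 18 (.node 17 (.fork lf9_16) (.fork lf9_17)) (.node 19 (.fork lf9_18) (.fork lf9_19)))) (.node 24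 (.node 22 (.node 21 (.fork lf9_20) (.fork lf9_21)) (.node 23 (.fork lf9_22) (.fork lf9_23))) (.node 26 (.node 25 (.fork lf9_24) (.fork lf9_25)) (.node 27 (.fork lf9_26) (.node 28 (.fork lf9_27) (.fork lf9_28))))))) (.node 46 (.node 37 (.node 33 (.node 31 (.node 30 (.fork lf9_29) (.fork lf9_30)) (.node 32 (.fork lf9_31) (.fork lf9_32))) (.node 35 (.node 34 (.fork lf9_33) (.fork lf9_34)) (.node 36 (.fork lf9_35) (.fork lf9_36)))) (.node 41 (.node 39 (.node 38 (.fork lf9_37) (.fork lf9_38)) (.node 40 (.fork lf9_39) (.fork lf9_40))) (.node 43 (.node 42 (.fork lf9_41) (.fork lf9_42)) (.node 44 (.fork lf9_43) (.node 45 (.fork lf9_44) (.fork lf9_45)))))) (.node 54 (.node 50 (.node 48 (.node 47 (.fork lf9_46) (.fork lf9_47)) (.node 49 (.fork lf9_48) (.fork lf9_49))) (.node 52 (.node 51 (.fork lf9_50) (.fork lf9_51)) (.node 53 (.fork lf9_52) (.fork lf9_53)))) (.node 58 (.node 56 (.node 55 (.fork lf9_54) (.fork lf9_55)) (.node 57 (.fork lf9_56) (.fork lf9_57))) (.node 60 (.node 59 (.fork lf9_58) (.fork lf9_59))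 (.node 61 (.fork lf9_60) (.node 62 (.fork lf9_61) (.fork lf9_62)))))))))
def trees : Nat → RTree (walkS st)
  | 0 => tree0
  | 1 => tree1
  | 2 => tree2
  | 3 => tree3
  | 4 => tree4
  | 5 => tree5
  | 6 => tree6
  | 7 => tree7
  | 8 => tree8
  | 9 => tree9
  | _ => .tleaf
noncomputable def fs0 (v : Nat) : Bool := chkSlot par tA0 je0 pe 6 63 16 (deadF par tA9) (fun _ => 138) tree0 0 v
noncomputable def fs1 (v : Nat) : Bool := chkSlot par tA1 je1 pe 6 63 16 (deadF par tA9) (fun _ => 138) tree1 1 v
noncomputable def fs2 (v : Nat) : Bool := chkSlot par tA2 je2 pe 6 63 16 (deadF par tA9) (fun _ => 138) tree2 2 v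
noncomputable def fs3 (v : Nat) : Bool := chkSlot par tA3 je3 pe 6 63 16 (deadF par tA9) (fun _ => 138) tree3 3 v
noncomputable def fs4 (v : Nat) : Bool := chkSlot par tA4 je4 pe 6 63 16 (deadF par tA9) (fun _ => 138) tree4 4 v
noncomputable def fs5 (v : Nat) : Bool := chkSlot par tA5 je5 pe 6 63 16 (deadF par tA9) (fun _ => 138) tree5 5 v
noncomputable def fs6 (v : Nat) : Bool := chkSlot par tA6 je6 pe 6 63 16 (deadF par tA9) (fun _ => 138) tree6 6 v
noncomputable def fs7 (v : Nat) : Bool := chkSlot par tA7 je7 pe 6 63 16 (deadF par tA9) (fun _ => 138) tree7 7 v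
noncomputable def fs8 (v : Nat) : Bool := chkSlot par tA8 je8 pe 6 63 16 (deadF par tA9) (fun _ => 138) tree8 8 v
noncomputable def fs9 (v : Nat) : Bool := chkSlot par tA9 je9 pe 6 63 16 (fun _ => true) (fun v => Nat.pred v) tree9 9 v
def gl (k : Nat) : Bool := liveF par tA9 (Nat.succ k)

end Cfsg.Agent.Lib.Helper35.Fi22Ord.Y0
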